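import Cfsg.Agent.H964.J1E6.Cent
import Cfsg.Agent.H944.TS.Iface
import Cfsg.Agent.SporadicB.J1.Main

/-!
# `J₁` is not a subgroup of `²E₆(2)` (helper964; task 986, S5741)
-/

set_option autoImplicit false

namespace Cfsg.Agent.H964.J1E6

open Subgroup

/-- No element of order 19 is conjugate to its inverse: Sylow counting. -/
theorem not_real {G : Type*} [Group G] (hcard : Nat.card G = 76532479683774853939200)
    (hexp : ∀ x u : G, orderOf x = 19 → u * x = x * u → u ^ 513 = 1) {x h : G} (hx : orderOf x = 19)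
    (hh : h * x * h⁻¹ = x⁻¹) : False := by
  have hp : Nat.Prime 19 := by norm_num
  have hpf : Fact (Nat.Prime 19) := ⟨hp⟩
  have hfin : Finite G := Nat.finite_of_card_ne_zero (by rw [hcard]; norm_num)
  have hZ : Nat.card (zpowers x) = 19 := by rw [Nat.card_zpowers, hx]
  -- the normaliser
  let N := normalizer ((zpowers x : Subgroup G) : Set G)
  let φ : N →* MulAut (zpowers x) := (zpowers x).normalizerMonoidHom
  have hker : φ.ker = (centralizer ((zpowers x : Subgroup G) : Set G)).subgroupOf N := (zpowers x).normalizerMonoidHom_ker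
  have hCle : centralizer ((zpowers x : Subgroup G) : Set G) ≤ N := centralizer_le_normalizer _
  have hcomm : ∀ u ∈ centralizer ((zpowers x : Subgroup G) : Set G), u * x = x * u := fun u hu =>
    (mem_centralizer_iff.1 hu x (mem_zpowers x)).symm
  -- the order of the centralizer
  obtain ⟨a, ha9, hC⟩ : ∃ a ≤ 9, Nat.card (centralizer ((zpowers x : Subgroup G) : Set G)) = 3 ^ a * 19 := by
    generalize hm : Nat.card (centralizer ((zpowers x : Subgroup G) : Set G)) = m
    have h1 : ∀ p : ℕ, p.Prime → ¬ p ∣ 513 → p.Coprime m := by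
      intro p hpp hd
      rw [hpp.coprime_iff_not_dvd]
      intro hpm
      have : Fact p.Prime := ⟨hpp⟩
      obtain ⟨y, hy⟩ := exists_prime_orderOf_dvd_card' p (hm ▸ hpm)
      apply hd
      have h2 := hexp x y hx (hcomm y y.2)
      rw [← hy, ← Subgroup.orderOf_coe]
      exact orderOf_dvd_of_pow_eq_one h2
    have h19 : 19 ∣ m := by
      rw [← hm, ← hx]
      have h3 : x ∈ centralizer ((zpowers x : Subgroup G) : Set G) := by
        rw [mem_centralizer_iff]
        rintro _ ⟨i, rfl⟩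
        exact ((Commute.refl x).zpow_left i).eq
      have h4 : orderOf (⟨x, h3⟩ : centralizer ((zpowers x : Subgroup G) : Set G)) = orderOf x := by
        rw [← Subgroup.orderOf_coe]
      rw [← h4]
      exact orderOf_dvd_natCard _
    have h5 : m ∣ 19 * 3 ^ 9 := by
      have h6 : m ∣ (2 ^ 36 * 5 ^ 2 * 7 ^ 2 * 11 * 13 * 17) * (19 * 3 ^ 9) := by
        have : m ∣ Nat.card G := hm ▸ Subgroup.card_subgroup_dvd_card _
        rw [hcard] at this
        norm_num
        exact this
      refine Nat.Coprime.dvd_of_dvd_mul_left ?_ h6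
      have c2 := h1 2 (by norm_num) (by norm_num)
      have c5 := h1 5 (by norm_num) (by norm_num)
      have c7 := h1 7 (by norm_num) (by norm_num)
      have c11 := h1 11 (by norm_num) (by norm_num)
      have c13 := h1 13 (by norm_num) (by norm_num)
      have c17 := h1 17 (by norm_num) (by norm_num)
      exact ((((((c2.pow_left 36).mul_left (c5.pow_left 2)).mul_left (c7.pow_left 2)).mul_left c11).mul_left
        c13).mul_left c17).symm
    obtain ⟨m', rfl⟩ := h19
    have h7 : m' ∣ 3 ^ 9 := Nat.dvd_of_mul_dvd_mul_left (by norm_num) h5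
    obtain ⟨a, ha, rfl⟩ := (Nat.dvd_prime_pow Nat.prime_three).1 h7
    exact ⟨a, ha, by ring⟩
  -- the index of the centralizer
  have hrange : Nat.card φ.range ∣ 18 := by
    have h1 : Nat.card (MulAut (zpowers x)) = 18 := by
      rw [IsCyclic.card_mulAut, hZ, Nat.totient_prime hp]
    rw [← h1]
    exact Subgroup.card_subgroup_dvd_card _
  have hN : Nat.card N = 3 ^ a * 19 * Nat.card φ.range := by
    have h1 := φ.ker.card_mul_index
    rw [Subgroup.index_ker, hker, Nat.card_congr (subgroupOfEquivOfLe hCle).toEquiv, hC] at h1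
    exact h1.symm
  -- the inverting element
  have hhN : h ∈ N := by
    have key : ∀ g : G, g * x * g⁻¹ = x⁻¹ → ∀ y ∈ zpowers x, g * y * g⁻¹ ∈ zpowers x := by
      rintro g hg _ ⟨i, rfl⟩
      change g * x ^ i * g⁻¹ ∈ _
      rw [← conj_zpow, hg]
      exact zpow_mem (inv_mem (mem_zpowers x)) _
    have hh' : h⁻¹ * x * h⁻¹⁻¹ = x⁻¹ := by
      have h1 : h * x⁻¹ * h⁻¹ = x := by rw [← conj_inv, hh, inv_inv]
      calc h⁻¹ * x * h⁻¹⁻¹ = h⁻¹ * (h * x⁻¹ * h⁻¹) * h⁻¹⁻¹ := by rw [h1]
        _ = x⁻¹ := by group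
    refine mem_normalizer_iff.2 fun y => ⟨key h hh y, fun hy => ?_⟩
    have h1 := key h⁻¹ hh' _ hy
    have h2 : h⁻¹ * (h * y * h⁻¹) * h⁻¹⁻¹ = y := by group
    rwa [h2] at h1
  have h2d : 2 ∣ Nat.card φ.range := by
    have hf2 : Fact (Nat.Prime 2) := ⟨Nat.prime_two⟩
    have h1 : orderOf (φ ⟨h, hhN⟩) = 2 := by
      apply orderOf_eq_prime
      · rw [← map_pow, ← MonoidHom.mem_ker, hker, mem_subgroupOf, mem_centralizer_iff]
        rintro _ ⟨i, rfl⟩
        change x ^ i * h ^ 2 = h ^ 2 * x ^ i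
        have h2 : h ^ 2 * x * (h ^ 2)⁻¹ = x := by
          calc h ^ 2 * x * (h ^ 2)⁻¹ = h * (h * x * h⁻¹) * h⁻¹ := by rw [pow_two]; group
            _ = (h * x * h⁻¹)⁻¹ := by rw [conj_inv, hh]
            _ = x := by rw [hh, inv_inv]
        exact (Commute.zpow_left (show Commute x (h ^ 2) from (mul_inv_eq_iff_eq_mul.1 h2).symm) i).eq
      · rw [Ne, ← MonoidHom.mem_ker, hker, mem_subgroupOf]
        intro h2
        have h3 : h * x = x * h := hcomm h h2
        have h4 : x⁻¹ = x := by rw [← hh, h3, mul_inv_cancel_right]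
        have h5 : x ^ 2 = 1 := by rw [pow_two]; nth_rewrite 1 [← h4]; exact inv_mul_cancel x
        have h6 := orderOf_dvd_of_pow_eq_one h5
        rw [hx] at h6
        norm_num at h6
    have h2 : orderOf (⟨φ ⟨h, hhN⟩, ⟨h, hhN⟩, rfl⟩ : φ.range) = 2 := by
      rw [← h1, ← Subgroup.orderOf_coe]
    rw [← h2]
    exact orderOf_dvd_natCard _
  -- Sylow
  obtain ⟨S, hS⟩ := (IsPGroup.of_card (n := 1) (by rw [hZ, pow_one]) : IsPGroup 19 (zpowers x)).exists_le_sylow
  have hSc : Nat.card (S : Subgroup G) = 19 := by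
    obtain ⟨n, hn⟩ := S.2.exists_card_eq
    have h1 : 19 ^ n ∣ 76532479683774853939200 := by rw [← hn, ← hcard]; exact Subgroup.card_subgroup_dvd_card _
    have h2 : n < 2 := by
      by_contra h2
      exact absurd (dvd_trans (pow_dvd_pow 19 (show 2 ≤ n by omega)) h1) (by norm_num)
    have h3 : 19 ∣ Nat.card (S : Subgroup G) := hZ.symm.dvd.trans (Subgroup.card_dvd_of_le hS)
    have h4 : n ≠ 0 := by
      rintro rfl
      rw [hn, pow_zero] at h3
      norm_num at h3
    have h5 : n = 1 := by omega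
    rw [hn, h5, pow_one]
  have hSeq : (S : Subgroup G) = zpowers x := (Subgroup.eq_of_le_of_card_ge hS (by rw [hSc, hZ])).symm
  have hidx : N.index ≡ 1 [MOD 19] := by
    have h1 := card_sylow_modEq_one 19 G
    have h2 : (S : Set G) = ((zpowers x : Subgroup G) : Set G) := congrArg (fun H : Subgroup G => (H : Set G)) hSeq
    rw [S.card_eq_index_normalizer, h2] at h1
    exact h1
  have htot := N.card_mul_index
  rw [hN, hcard] at htot
  generalize Nat.card φ.range = d at hrange h2d htot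
  generalize N.index = n at hidx htot
  have hd : d = 2 ∨ d = 6 ∨ d = 18 := by
    have h1 := Nat.le_of_dvd (by norm_num) hrange
    interval_cases d <;> omega
  unfold Nat.ModEq at hidx
  rcases hd with rfl | rfl | rfl <;> interval_cases a <;> omega

section

open Cfsg.Spor Cfsg.Agent.SporadicB.J1.Mat Cfsg.Agent.SporadicB.J1.Data Cfsg.Agent.SporadicB.J1.Main

/-- an element of order 19 of `J₁` inverted by an involution -/
theorem j1_real : ∃ x h : J1, orderOf x = 19 ∧ h * x * h⁻¹ = x⁻¹ := by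
  have : Fact (Nat.Prime 19) := ⟨by norm_num⟩
  have h1 : ev [1, 2, 1, 0] ^ 19 = 1 := ((rep_ev _).pow 19).eq Rep.one (by decide +kernel)
  refine ⟨ev [1, 2, 1, 0], ev [3, 0, 0, 0, 1, 0, 1, 0], ?_, ?_⟩
  · exact orderOf_eq_prime h1 ((rep_ev _).ne Rep.one (by decide +kernel))
  · have h2 : ev [3, 0, 0, 0, 1, 0, 1, 0] * ev [1, 2, 1, 0] = ev [1, 2, 1, 0] ^ 18 * ev [3, 0, 0, 0, 1, 0, 1, 0] :=
      ((rep_ev _).mul (rep_ev _)).eq (((rep_ev _).pow 18).mul (rep_ev _)) (by decide +kernel)
    rw [h2, mul_inv_cancel_right]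
    exact eq_inv_of_mul_eq_one_left (by rw [← pow_succ, h1])

end

open Cfsg Cfsg.Agent.OrdDiv Cfsg.Agent.H944.TS

universe u

/-- **`J₁` is not a subgroup of `²E₆(2)`.** -/
theorem notE_j1 {K : Type u} [Field K] [Fintype K] (hK : Fintype.card K = 4) : NotE K .j1 := by
  rintro L ⟨e⟩
  obtain ⟨x, h, hx, hh⟩ := j1_real
  refine not_real (Cfsg.Agent.BabyU.CentT1.card_E K hK) (fun x u hx hu => cent_exp hK hx hu)
    (x := (e.symm x : ↥L)) (h := (e.symm h : ↥L)) ?_ ?_
  · rw [Subgroup.orderOf_coe, MulEquiv.orderOf_eq, hx]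
  · rw [← Subgroup.coe_inv, ← Subgroup.coe_mul, ← Subgroup.coe_mul, ← map_inv, ← map_mul, ← map_mul, hh, map_inv,
      Subgroup.coe_inv]

end Cfsg.Agent.H964.J1E6
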