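import Cfsg.Agent.H897.Fin

/-!
# The centralizer of an element of order 19 in `²E₆(2)` has exponent dividing `513` (helper964)
-/

set_option autoImplicit false
set_option linter.unusedSectionVars false

namespace Cfsg.Agent.H964.J1E6

open CoxeterSystem Cfsg Cfsg.Lie Cfsg.Agent.ChevalleyStructure Cfsg.Agent.ChevalleyStructure.Elts
  Cfsg.Agent.ChevalleyStructure.CoxeterGeom Cfsg.Agent.ChevalleyStructure.CoxeterGeomTypes
  Cfsg.Agent.Tits.Roots
  Cfsg.Agent.Tits.Core Cfsg.Agent.Nodes.Reps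
  Cfsg.Agent.Nodes.BNOf Cfsg.Agent.Nodes.RGDChev Cfsg.Agent.KFacts.RgdField Cfsg.Agent.KFacts.RgdChevCoord
  Cfsg.Agent.BpExc.Tow Cfsg.Agent.BpExc.TowChev Cfsg.Agent.BpExc.LangFr Cfsg.Agent.BpExc.Fr
  Cfsg.Agent.BpExc.TorCent Cfsg.Agent.H897.Lat Cfsg.Agent.H897.Sg Cfsg.Agent.H897.Tor Cfsg.Agent.H897.Cen
  Cfsg.Agent.H897.Orb Cfsg.Agent.H897.Emb Cfsg.Agent.H897.Frm Cfsg.Agent.H897.Cas Cfsg.Agent.H897.Syl
  Cfsg.Agent.H897.Data
open Cfsg.Agent.BpExc.FamTw.Six (em coe_em em_injective sig_em)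

universe u v

/-- the action of the frame for 19 on the roots -/
def st (a : V) : V := actR ws19 (pm a)

theorem st_mem : ∀ a ∈ rootList, st a ∈ rootList := by decide +kernel

theorem st_nine : ∀ a ∈ rootList, st (st (st (st (st (st (st (st (st a)))))))) = -a := by decide +kernel

variable {K : Type u} [Field K] [Fintype K] (hK : Fintype.card K = 4) {k : Type v} [Field k] [CharP k 2]
  [IsAlgClosed k] (hk : LocFin k) (f : K →+* k)

include hK hk f in
theorem cent_exp' {x u : ↥(twistedE6 K 2)} (hx : orderOf x = 19) (hu : u * x = x * u) : u ^ 513 = 1 := by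
  have hpp : Nat.Prime 19 := by norm_num
  have hpf : Fact (Nat.Prime 19) := ⟨hpp⟩
  obtain ⟨ζ, hζ⟩ := exists_prim (k := k) (l := 19) (by norm_num)
  have hζ0 : ζ ≠ 0 := hζ.ne_zero hpp.ne_zero
  have hx1 : x ≠ 1 := by
    rintro rfl
    rw [orderOf_one] at hx
    norm_num at hx
  obtain ⟨z, hz, hPm⟩ := exists_frame_one hK hk f ws19_mem hpp (by norm_num) (by norm_num) hζ c19_fix c19_ne
    (P := Subgroup.zpowers x) (IsPGroup.of_card (n := 1) (by rw [Nat.card_zpowers, hx, pow_one]))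
    (by rwa [Ne, Subgroup.zpowers_eq_bot])
  obtain ⟨hcT, -⟩ := tz_spec (ζ := ζ) hζ0 c19
  have hcp := tz_pow_eq_one hk hpp.pos hζ c19
  obtain ⟨x0, hx0, ex0⟩ : ∃ x0 ∈ Subgroup.zpowers x, em 2 f x0 = z * tz ζ c19 * z⁻¹ := by
    have h2 : z * tz ζ c19 * z⁻¹ ∈ (Subgroup.zpowers (tz ζ c19)).map (MulAut.conj z).toMonoidHom :=
      ⟨tz ζ c19, Subgroup.mem_zpowers _, rfl⟩
    rw [← hPm] at h2
    obtain ⟨x, hx, e⟩ := h2
    exact ⟨x, hx, e⟩
  have hu0 : u * x0 = x0 * u := by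
    obtain ⟨m, rfl⟩ := hx0
    exact (Commute.zpow_right (show Commute u x from hu) m).eq
  have hem := congrArg (em 2 f) hu0
  rw [map_mul, map_mul, ex0] at hem
  -- the element of the torus
  have hv : (z⁻¹ * em 2 f u * z) * tz ζ c19 = tz ζ c19 * (z⁻¹ * em 2 f u * z) := by
    calc (z⁻¹ * em 2 f u * z) * tz ζ c19 = z⁻¹ * (em 2 f u * (z * tz ζ c19 * z⁻¹)) * z := by group
      _ = z⁻¹ * ((z * tz ζ c19 * z⁻¹) * em 2 f u) * z := by rw [hem]
      _ = _ := by group
  have hvT : z⁻¹ * em 2 f u * z ∈ TT chevE6 k := by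
    refine cent_reg hk hpp (by norm_num) (S := {tz ζ c19}) (Set.finite_singleton _) ?_ ?_ ?_ ?_
    · rintro s rfl
      exact hcT
    · rintro s rfl
      exact hcp
    · intro a ha
      refine ⟨tz ζ c19, rfl, ?_⟩
      rw [ch_tz hk hζ0 _ ha, Ne, hζ.zpow_eq_one_iff_dvd]
      exact c19_reg a ha
    · rintro s rfl
      exact hv
  obtain ⟨τ, g, F, hg, hτ⟩ := hz.spec
  generalize hvd : z⁻¹ * em 2 f u * z = v at hvT
  have huv : em 2 f u = z * v * z⁻¹ := by rw [← hvd]; group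
  have hτv : τ v = v := by
    have h1 := sg_em hK f u
    rw [huv, hτ] at h1
    exact conj_inj h1
  have hstep : ∀ a ∈ rootList, ch hp (st a) v = ch hp a v ^ 2 := by
    intro a ha
    have h1 := ch_tau hk F hvT ha
    rw [hτv, hg] at h1
    exact h1
  have h9 : ∀ a ∈ rootList, ch hp (-a) v = ch hp a v ^ 512 := by
    intro a ha
    have m1 := st_mem a ha
    have m2 := st_mem _ m1
    have m3 := st_mem _ m2
    have m4 := st_mem _ m3
    have m5 := st_mem _ m4
    have m6 := st_mem _ m5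
    have m7 := st_mem _ m6
    have m8 := st_mem _ m7
    rw [← st_nine a ha, hstep _ m8, hstep _ m7, hstep _ m6, hstep _ m5, hstep _ m4, hstep _ m3, hstep _ m2,
      hstep _ m1, hstep _ ha, ← pow_mul, ← pow_mul, ← pow_mul, ← pow_mul, ← pow_mul, ← pow_mul, ← pow_mul, ← pow_mul]
  have hv1 : v ^ 513 = 1 := by
    refine eq_of_ch (pow_mem hvT 513) (one_mem _) fun i => ?_
    have hi := isRoot_sr' i
    rw [ch_pow hk hvT hi, ch_one hk hi]
    obtain ⟨φ, h3, h4, h5⟩ := chAddL hp CoxeterMatrix.E₆.toCoxeterSystem hk 2 v hvT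
    have hr : ∀ a ∈ rootList, IsRoot CoxeterMatrix.E₆.toCoxeterSystem hp.isCartan a := fun a ha => (isRoot_iff' _ a).2 ha
    have h6 := h9 _ hi
    rw [h5 _ (hr _ (neg_mem hi)), h5 _ (hr _ hi)] at h6
    rw [h5 _ (hr _ hi)]
    have h7 := h4 (sr i) (-sr i)
    rw [add_neg_cancel, h3, h6] at h7
    rw [pow_succ', ← h7]
  apply em_injective (K := K) (q := 2) f
  rw [map_pow, huv, conj_pow, hv1, map_one]
  group

include hK in
/-- **The centralizer of an element of order 19 has exponent dividing 513.** -/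
theorem cent_exp {x u : ↥(twistedE6 K 2)} (hx : orderOf x = 19) (hu : u * x = x * u) : u ^ 513 = 1 := by
  have hchar : CharP K 2 := by
    obtain ⟨q, hq⟩ := CharP.exists K
    have hqp : q.Prime := CharP.char_is_prime K q
    obtain ⟨n, -, hn⟩ := FiniteField.card K q
    rw [hK] at hn
    have h1 : q ∣ 2 ^ 2 := by
      have : q ∣ q ^ (n : ℕ) := dvd_pow_self q n.ne_zero
      rw [← hn] at this
      exact this
    have h2 : q = 2 := (Nat.prime_dvd_prime_iff_eq hqp Nat.prime_two).1 (hqp.dvd_of_dvd_pow h1)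
    rwa [← h2]
  let _ : Algebra (ZMod 2) K := ZMod.algebra K 2
  have hfin : Module.Finite (ZMod 2) K := Module.Finite.of_finite
  have halg : Algebra.IsAlgebraic (ZMod 2) K := Algebra.IsAlgebraic.of_finite (ZMod 2) K
  let f : K →ₐ[ZMod 2] AlgebraicClosure (ZMod 2) := IsAlgClosed.lift
  have hk : Cfsg.Agent.BpExc.TowChev.LocFin (AlgebraicClosure (ZMod 2)) :=
    Cfsg.Agent.BpExc.TowChev.locFin_of_isAlgebraic 2 _
  exact cent_exp' hK hk (f : K →+* AlgebraicClosure (ZMod 2)) hx hu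

end Cfsg.Agent.H964.J1E6
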